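import Groth.Agent.Borel50.Nilp
import Groth.Agent.LieKolchin.Points
import Groth.Agent.GrpdLib.AffHomogeneous
import Groth.Agent.GrpScheme.Smooth
import Groth.Agent.SchFinLib.Conn

/-!
# A connected group whose connected solvable subgroups are commutative is commutative
-/

set_option autoImplicit false
set_option backward.isDefEq.respectTransparency false
universe u

open CategoryTheory MonoidalCategory CartesianMonoidalCategory MonObj GrpObj AlgebraicGeometry Limits WithConv

noncomputable section

namespace Groth.Agent.AllSS81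

open Groth.Agent.GrpdLib.AffHomogeneous (specG ptEquiv)
open Groth.Agent.Borel50.Pts
open Groth.Agent.LieKolchin

variable {k : Type u} [Field k] [IsAlgClosed k]

attribute [local instance] UnipLib.algOf

lemma bijective_algebraMap_unit :
    Function.Bijective (algebraMap k Γ((𝟙_ (Over (Spec (CommRingCat.of k)))).left, ⊤)) := by
  rw [RingHom.algebraMap_toAlgebra]
  show Function.Bijective (fun r => (𝟙_ (Over (Spec (CommRingCat.of k)))).hom.appTop
    ((Scheme.ΓSpecIso (CommRingCat.of k)).inv r))
  have : IsIso (𝟙_ (Over (Spec (CommRingCat.of k)))).hom.appTop := by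
    show IsIso (Scheme.Hom.appTop (𝟙 (Spec (CommRingCat.of k))))
    infer_instance
  exact (ConcreteCategory.bijective_of_isIso _).comp (ConcreteCategory.bijective_of_isIso _)

variable {A : Type u} [CommRing A] [HopfAlgebra k A]

/-- Rational points as algebra maps, compatibly with the underlying points of the spectrum. -/
theorem exists_ptsEquiv :
    ∃ F : Pts k A ≃* Pt (specG (k := k) A), ∀ x, pt (F x) = toPrime x := by
  let ι₀ : k →ₐ[k] Γ((𝟙_ (Over (Spec (CommRingCat.of k)))).left, ⊤) := Algebra.ofId _ _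
  let ι₁ := AlgEquiv.ofBijective ι₀ bijective_algebraMap_unit
  let f₁ : Pts k A ≃* WithConv (A →ₐ[k] Γ((𝟙_ (Over (Spec (CommRingCat.of k)))).left, ⊤)) :=
  { toFun := fun φ => toConv (ι₀.comp φ.ofConv)
    invFun := fun φ => toConv (ι₁.symm.toAlgHom.comp φ.ofConv)
    left_inv := fun φ => WithConv.ofConv_injective (AlgHom.ext fun a => ι₁.symm_apply_apply _)
    right_inv := fun φ => WithConv.ofConv_injective (AlgHom.ext fun a => ι₁.apply_symm_apply _)
    map_mul' := fun φ ψ => congrArg toConv (AlgHom.comp_convMul_distrib ι₀ φ ψ) }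
  refine ⟨f₁.trans (ptEquiv (A := A) (𝟙_ _)), fun x => ?_⟩
  let X := 𝟙_ (Over (Spec (CommRingCat.of k)))
  show (X.left.toSpecΓ ≫ Spec.map (CommRingCat.ofHom (ι₀.comp x.ofConv).toRingHom)).base
    (IsLocalRing.closedPoint k) = toPrime x
  apply PrimeSpectrum.ext
  have hF : IsField Γ(X.left, ⊤) := MulEquiv.isField (Field.toIsField k)
    (RingEquiv.ofBijective _ (bijective_algebraMap_unit (k := k))).symm.toMulEquiv
  let := hF.toField
  let q : PrimeSpectrum Γ(X.left, ⊤) := X.left.toSpecΓ.base (IsLocalRing.closedPoint k)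
  have hq : q.asIdeal = ⊥ := (Ideal.eq_bot_or_top q.asIdeal).resolve_right q.isPrime.ne_top
  show q.asIdeal.comap (ι₀.comp x.ofConv).toRingHom = RingHom.ker x.ofConv.toRingHom
  rw [hq]
  ext a
  simp only [Ideal.mem_comap, Ideal.mem_bot, RingHom.mem_ker]
  exact map_eq_zero_iff ι₀ (bijective_algebraMap_unit (k := k)).1

/-- If the connected solvable groups of rational points are commutative, then so is the group. -/
theorem comm_of_solvable_comm [Algebra.FiniteType k A] [IsReduced A]
    (hconn : ∀ e : A, IsIdempotentElem e → e = 0 ∨ e = 1)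
    (h : ∀ S : Subgroup (Pts k A), (∃ n, derivedSeries S n = ⊥) →
      (letI := zariski (k := k) (A := A); IsPreconnected (S : Set (Pts k A))) → ∀ x ∈ S, ∀ y ∈ S, x * y = y * x) :
    ∀ x y : Pts k A, x * y = y * x := by
  letI := zariski (k := k) (A := A)
  let G := specG (k := k) A
  have : IsAffine G.left := inferInstanceAs (IsAffine (Spec (CommRingCat.of A)))
  have : IsReduced G.left := inferInstanceAs (IsReduced (Spec (CommRingCat.of A)))
  have : LocallyOfFiniteType G.hom :=
    (HasRingHomProperty.Spec_iff (P := @LocallyOfFiniteType)).2 (RingHom.finiteType_algebraMap.2 ‹_›)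
  have : Smooth G.hom := GrpScheme.Smooth.smooth_of_perfectField G
  have : Nontrivial A := (Bialgebra.counitAlgHom k A).toRingHom.domain_nontrivial
  have : ConnectedSpace G.left := (SchFinLib.connectedSpace_spec_iff A).2 ⟨this, hconn⟩
  obtain ⟨F, hF⟩ := exists_ptsEquiv (k := k) (A := A)
  obtain ⟨B, _, b, hB⟩ := Borel50.Conj.exists_borel G
  have := hB.1
  have := hB.2.1
  have := hB.2.2.2.1
  have : JacobsonSpace G.left := LocallyOfFiniteType.jacobsonSpace G.hom
  let φ : Pt B →* Pts k A := F.symm.toMonoidHom.comp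
    { toFun := fun x => x ≫ b, map_one' := MonObj.one_comp _, map_mul' := fun x y => MonObj.mul_comp x y _ }
  have : Mono b := Over.mono_of_mono_left b
  have hφ : Function.Injective φ := fun x y e => (cancel_mono b).1 (F.symm.injective e)
  have hsol : ∃ n, derivedSeries φ.range n = ⊥ := by
    obtain ⟨n, hn⟩ := Borel50.Solvable.points_of_isSolvableGrp hB.2.2.2.2.1
    refine ⟨n, le_bot_iff.1 ?_⟩
    have h1 := map_derivedSeries_le_derivedSeries φ.rangeRestrict n
    rw [hn, Subgroup.map_bot] at h1
    rw [← map_derivedSeries_eq φ.rangeRestrict_surjective, hn, Subgroup.map_bot]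
  have hC : _root_.IsPreconnected (Set.range b.left) := isPreconnected_range b.left.continuous
  have hS : _root_.IsPreconnected (φ.range : Set (Pts k A)) := by
    rw [isPreconnected_closed_iff]
    intro t t' ht ht' hcov ⟨x, hx, hxt⟩ ⟨y, hy, hyt⟩
    obtain ⟨Z, hZ, rfl⟩ := isClosed_induced_iff.1 ht
    obtain ⟨Z', hZ', rfl⟩ := isClosed_induced_iff.1 ht'
    have key : ∀ p : G.left, IsClosed ({p} : Set G.left) → p ∈ Set.range b.left →
        ∃ z ∈ φ.range, toPrime z = p := by
      intro p hp hpb
      obtain ⟨g, rfl⟩ := exists_pt (Y := G) hp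
      obtain ⟨l, hl⟩ := exists_lift_of_mem b hpb
      refine ⟨F.symm g, ⟨l, congrArg F.symm hl⟩, ?_⟩
      rw [← hF, MulEquiv.apply_symm_apply]
    have hmem : ∀ z ∈ φ.range, toPrime z ∈ Set.range b.left := by
      rintro _ ⟨l, rfl⟩
      rw [← hF]
      exact mem_range_of_factor (z := l) (F.apply_symm_apply _).symm
    have hclosed : IsClosed (Set.range b.left) := b.left.isClosedEmbedding.isClosed_range
    have hsub : Set.range b.left ⊆ Z ∪ Z' := by
      by_contra hne
      obtain ⟨p, ⟨hp1, hp2⟩, hpc⟩ := nonempty_inter_closedPoints (Set.diff_nonempty.2 hne)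
        (hclosed.isLocallyClosed.inter ((hZ.union hZ').isOpen_compl.isLocallyClosed))
      obtain ⟨z, hz, rfl⟩ := key p hpc hp1
      exact hp2 (hcov hz)
    obtain ⟨p, hp⟩ := isPreconnected_closed_iff.1 hC Z Z' hZ hZ' hsub ⟨_, hmem x hx, hxt⟩ ⟨_, hmem y hy, hyt⟩
    obtain ⟨p, ⟨hp1, hp2⟩, hpc⟩ := nonempty_inter_closedPoints ⟨p, hp⟩
      (hclosed.inter (hZ.inter hZ')).isLocallyClosed
    obtain ⟨z, hz, rfl⟩ := key p hpc hp1
    exact ⟨z, hz, hp2⟩
  have hBc : ∀ x y : Pt B, x * y = y * x := fun x y => hφ (by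
    rw [map_mul, map_mul]; exact h _ hsol hS _ ⟨x, rfl⟩ _ ⟨y, rfl⟩)
  have hnil : Subgroup.upperCentralSeries (Pt B) 1 = ⊤ := by
    rw [Subgroup.upperCentralSeries_one, eq_top_iff]
    exact fun x _ => Subgroup.mem_center_iff.2 fun y => hBc y x
  have := Borel50.Nilp.isIso_of_nilpotent_borel 1 G B b hB hnil
  intro x y
  have e : ∀ z, φ (F z ≫ inv b) = z := fun z => by simp [φ]
  rw [← e x, ← e y, ← map_mul, ← map_mul, hBc]

end Groth.Agent.AllSS81
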