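import Groth.Agent.S3267
import Groth.Agent.LieKolchin.Points
import Mathlib.LinearAlgebra.Eigenspace.Semisimple
import Mathlib.LinearAlgebra.Eigenspace.Pi
import Mathlib.LinearAlgebra.Eigenspace.Triangularizable
import Mathlib.RingTheory.Coalgebra.GroupLike

/-!
# Groups all of whose rational points are semisimple: the linear algebra
-/

set_option autoImplicit false
universe u v
open scoped TensorProduct commutatorElement
open WithConv

namespace Groth.Agent.AllSS81

open Groth.Agent.LieKolchin

/-- Every point acts semisimply on every finite-dimensional comodule. -/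
def AllSS (k : Type u) (A : Type v) [Field k] [CommRing A] [HopfAlgebra k A] : Prop :=
  ∀ (g : A →ₐ[k] k) (V : Type v) [AddCommGroup V] [Module k V] [HopfRep.Comod k A V],
    Module.Finite k V → Module.End.IsSemisimple (HopfRep.Comod.act k A V g)

variable {k : Type u} [Field k] {A : Type v} [CommRing A] [HopfAlgebra k A]

variable (k A) in
/-- A finite-dimensional subcomodule of the regular one generating the algebra. -/
theorem exists_gen [Algebra.FiniteType k A] :
    ∃ U : Submodule k A, Module.Finite k U ∧ Algebra.adjoin k (U : Set A) = ⊤ ∧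
      HopfRep.IsSubcomod (k := k) (A := A) U := by
  obtain ⟨S, hS⟩ := (Algebra.FiniteType.out : (⊤ : Subalgebra k A).FG)
  obtain ⟨U, hU, hSU, hUs⟩ := Comod.exists_finite_subcomod (k := k) (A := A) (V := A) S
  exact ⟨U, hU, top_le_iff.1 (hS ▸ Algebra.adjoin_mono hSU), hUs⟩

/-- The action on a subcomodule of the regular comodule recovers the values of the point. -/
theorem counit_act (U : Submodule k A) (hUs : HopfRep.IsSubcomod (k := k) (A := A) U) (g : Pts k A) (a : U) :
    letI := ComodSub.Comod.restr (HopfRep.Comod.regular k A) U hUs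
    Coalgebra.counit (R := k) ((actHom (k := k) (A := A) U g a : U) : A) = g.ofConv (a : A) := by
  letI := ComodSub.Comod.restr (HopfRep.Comod.regular k A) U hUs
  have hι : Hoch.IsComodHom A U.subtype :=
    (ComodSub.rTensor_subtype_comp_restrCoact (HopfRep.Comod.regular k A) U hUs).symm
  show Coalgebra.counit (R := k) (U.subtype (Comod.contract g.ofConv.toLinearMap a)) = _
  rw [Comod.map_contract hι, Comod.contract_apply]
  show Coalgebra.counit (R := k) (Comod.slice g.ofConv.toLinearMap (Coalgebra.comul (R := k) (a : A))) = _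
  have hz : ∀ z : TensorProduct k A A, Coalgebra.counit (R := k) (Comod.slice g.ofConv.toLinearMap z) =
      g.ofConv.toLinearMap (TensorProduct.lid k A ((Coalgebra.counit (R := k) (A := A)).rTensor A z)) := by
    intro z
    induction z using TensorProduct.induction_on with
    | zero => simp
    | tmul a b => simp [mul_comm]
    | add a b ha hb => simp only [map_add, ha, hb]
  rw [hz, Coalgebra.rTensor_counit_comul]
  simp

/-- A solvable connected group of semisimple points is commutative. -/
theorem comm_of_solvable [IsAlgClosed k] [Algebra.FiniteType k A] (hss : AllSS k A)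
    (S : Subgroup (Pts k A)) (hsol : ∃ n, derivedSeries S n = ⊥)
    (hconn : letI := zariski (k := k) (A := A); IsPreconnected (S : Set (Pts k A))) :
    ∀ x ∈ S, ∀ y ∈ S, x * y = y * x := by
  letI := zariski (k := k) (A := A)
  obtain ⟨n, hn⟩ := hsol
  haveI : PreconnectedSpace S := Subtype.preconnectedSpace hconn
  obtain ⟨U, hU, hgen, hUs⟩ := exists_gen k A
  letI := ComodSub.Comod.restr (HopfRep.Comod.regular k A) U hUs
  let ρ : S →* Module.End k U := (actHom (k := k) (A := A) U).comp S.subtype
  have hρ : Adm ρ := fun v f c => (adm_actHom (k := k) (A := A) (V := U) v f c).preimage continuous_subtype_val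
  intro x hx y hy
  let c : S := ⁅(⟨x, hx⟩ : S), (⟨y, hy⟩ : S)⁆
  have hc : c ∈ commutator S :=
    Subgroup.commutator_mem_commutator (Subgroup.mem_top _) (Subgroup.mem_top _)
  have hnil : IsNilpotent (ρ c - 1) :=
    isNilpotent_sub_one ((goodTop (k := k) (A := A)).subgroup S) n hn c hc _ U ρ hρ rfl
  have hs : Module.End.IsSemisimple (ρ c - 1) := by
    rw [← map_one (algebraMap k (Module.End k U))]
    exact Module.End.isSemisimple_sub_algebraMap_iff.2 (hss (c : Pts k A).ofConv U hU)
  have h1 : ρ c = 1 := sub_eq_zero.1 (Module.End.eq_zero_of_isNilpotent_isSemisimple hnil hs)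
  have h2 : (c : Pts k A) = 1 := by
    apply WithConv.ext
    refine AlgHom.ext_of_adjoin_eq_top hgen fun a ha => ?_
    rw [← counit_act U hUs _ ⟨a, ha⟩,
      show actHom (k := k) (A := A) U (c : Pts k A) = 1 from h1]
    simp
  simp only [c, Subgroup.coe_mk] at h2
  exact commutatorElement_eq_one_iff_commute.1 (by simpa [commutatorElement_def] using h2)

/-- Commuting semisimple points: the group is diagonalizable. -/
theorem isDiagonalizable_of_comm [IsAlgClosed k] [Algebra.FiniteType k A] [IsReduced A] (hss : AllSS k A)
    (hcomm : ∀ x y : Pts k A, x * y = y * x) : HopfRep.IsDiagonalizable k A := by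
  classical
  rw [HopfRep.IsDiagonalizable, Submodule.eq_top_iff']
  intro a
  obtain ⟨U, hU, haU, hUs⟩ := Comod.exists_finite_subcomod (k := k) (A := A) (V := A) {a}
  letI := ComodSub.Comod.restr (HopfRep.Comod.regular k A) U hUs
  have hι : Hoch.IsComodHom A U.subtype :=
    (ComodSub.rTensor_subtype_comp_restrCoact (HopfRep.Comod.regular k A) U hUs).symm
  let T : Pts k A → Module.End k U := fun g => actHom (k := k) (A := A) U g
  have hT : ∀ g, (T g).IsSemisimple := fun g => hss g.ofConv U hU
  have hdec : ⨆ χ : Pts k A → k, ⨅ g, (T g).maxGenEigenspace (χ g) = ⊤ :=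
    Module.End.iSup_iInf_maxGenEigenspace_eq_top_of_forall_mapsTo _
      (fun g h _ => Module.End.mapsTo_maxGenEigenspace_of_comm
        (show T h * T g = T g * T h by simp only [T, ← map_mul, hcomm]) _)
      (fun g => Module.End.iSup_maxGenEigenspace_eq_top _)
  suffices h : ∀ χ : Pts k A → k, ∀ v : U, (∀ g, T g v = χ g • v) →
      (v : A) ∈ Submodule.span k {a : A | IsGroupLikeElem k a} by
    have : (⊤ : Submodule k U) ≤ (Submodule.span k {a : A | IsGroupLikeElem k a}).comap U.subtype := by
      rw [← hdec]
      refine iSup_le fun χ v hv => h χ v fun g => ?_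
      have := Submodule.mem_iInf _ |>.1 hv g
      rwa [(hT g).isFinitelySemisimple.maxGenEigenspace_eq_eigenspace, Module.End.mem_eigenspace_iff] at this
    exact this (Submodule.mem_top (x := ⟨a, haU (by simp)⟩))
  intro χ v hv
  have hval : ∀ g : Pts k A, g.ofConv (v : A) = χ g * Coalgebra.counit (R := k) (v : A) := fun g => by
    rw [← counit_act U hUs g v, show actHom (k := k) (A := A) U g v = χ g • v from hv g]
    simp
  by_cases h0 : Coalgebra.counit (R := k) (v : A) = 0
  · rw [eq_zero_of_forall_point (k := k) (v : A) fun g => by simpa [h0] using hval (toConv g)]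
    exact Submodule.zero_mem _
  let ε := Coalgebra.counit (R := k) (v : A)
  let l : A := ε⁻¹ • (v : A)
  have hl : ∀ g : Pts k A, g.ofConv l = χ g := fun g => by
    rw [map_smul, hval, smul_eq_mul, mul_comm (χ g), ← mul_assoc, inv_mul_cancel₀ h0, one_mul]
  have hco : HopfRep.Comod.coact (k := k) (A := A) v = v ⊗ₜ[k] l := by
    let b := Module.finBasis k U
    refine (TensorProduct.equivFinsuppOfBasisLeft b).injective (Finsupp.ext fun i => ?_)
    refine sub_eq_zero.1 (eq_zero_of_forall_point (k := k) _ fun g => ?_)
    rw [map_sub, sub_eq_zero, TensorProduct.equivFinsuppOfBasisLeft_apply_tmul_apply, map_smul]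
    show _ = _ • (toConv g).ofConv l
    rw [hl]
    have e := congrArg (fun w => b.repr w i) (hv (toConv g))
    simp only [map_smul, Finsupp.smul_apply, smul_eq_mul] at e
    rw [smul_eq_mul, mul_comm, ← e, show T (toConv g) v = Comod.slice g.toLinearMap
      (HopfRep.Comod.coact (k := k) (A := A) v) from rfl]
    generalize HopfRep.Comod.coact (k := k) (A := A) v = t
    induction t using TensorProduct.induction_on with
    | zero => simp
    | tmul p q => simp [mul_comm]
    | add s t hs ht => simp only [map_add, Finsupp.add_apply, hs, ht]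
  have hreg : Coalgebra.comul (R := k) (v : A) = (v : A) ⊗ₜ[k] l := by
    have h := LinearMap.congr_fun hι v
    simp only [LinearMap.comp_apply, hco, LinearMap.rTensor_tmul] at h
    exact h
  have hgl : IsGroupLikeElem k l := by
    refine ⟨?_, ?_⟩
    · show Coalgebra.counit (R := k) (ε⁻¹ • (v : A)) = 1
      rw [map_smul, smul_eq_mul]; exact inv_mul_cancel₀ h0
    · show Coalgebra.comul (R := k) (ε⁻¹ • (v : A)) = l ⊗ₜ l
      rw [map_smul, hreg, TensorProduct.smul_tmul']
  have : (v : A) = ε • l := by rw [smul_smul, mul_inv_cancel₀ h0, one_smul]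
  rw [this]
  exact Submodule.smul_mem _ _ (Submodule.subset_span hgl)

end Groth.Agent.AllSS81
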