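import Mathlib.RingTheory.HopfAlgebra.Convolution
import Mathlib.RingTheory.Bialgebra.Equiv
import Mathlib.RingTheory.FiniteType
import Mathlib.RingTheory.Ideal.Quotient.Operations

/-!
# Transport of a commutative Hopf algebra structure along an algebra isomorphism
-/

set_option autoImplicit false
universe u v w
open scoped TensorProduct

noncomputable section

namespace Groth.Agent.AllSS81

variable {k : Type u} [CommRing k] {A : Type v} [CommRing A] [HopfAlgebra k A]
  {B : Type w} [CommRing B] [Algebra k B] (e : B ≃ₐ[k] A)

/-- The transported comultiplication. -/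
def comul' : B →ₐ[k] B ⊗[k] B :=
  (Algebra.TensorProduct.map (e.symm : A →ₐ[k] B) (e.symm : A →ₐ[k] B)).comp
    ((Bialgebra.comulAlgHom k A).comp (e : B →ₐ[k] A))

/-- The transported counit. -/
def counit' : B →ₐ[k] k := (Bialgebra.counitAlgHom k A).comp (e : B →ₐ[k] A)

theorem comul'_apply (b : B) :
    comul' e b = Algebra.TensorProduct.map (e.symm : A →ₐ[k] B) (e.symm : A →ₐ[k] B)
      (Coalgebra.comul (R := k) (e b)) := rfl

/-- The transported bialgebra. -/
abbrev bialg : Bialgebra k B :=
  Bialgebra.ofAlgHom (comul' e) (counit' e)
    (AlgHom.ext fun b => by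
      obtain ⟨ι, s, x, y, hxy⟩ : ∃ (ι : Type (max u v)) (s : Finset ι) (x y : ι → A),
          Coalgebra.comul (R := k) (e b) = ∑ i ∈ s, x i ⊗ₜ[k] y i := by
        obtain ⟨S, hS⟩ := TensorProduct.exists_finset (Coalgebra.comul (R := k) (e b))
        exact ⟨ULift.{u} (A × A), S.map ⟨ULift.up, ULift.up_injective⟩, fun i => i.down.1, fun i => i.down.2,
          by rw [hS, Finset.sum_map]; rfl⟩
      have h := Coalgebra.coassoc_apply (R := k) (e b)
      rw [hxy] at h
      simp only [map_sum, LinearMap.rTensor_tmul, LinearMap.lTensor_tmul] at h
      have h2 := congrArg (Algebra.TensorProduct.map (e.symm : A →ₐ[k] B)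
        (Algebra.TensorProduct.map (e.symm : A →ₐ[k] B) (e.symm : A →ₐ[k] B))) h
      simp only [map_sum, Algebra.TensorProduct.map_tmul] at h2
      simp only [AlgHom.comp_apply, comul'_apply, hxy, map_sum, Algebra.TensorProduct.map_tmul]
      refine Eq.trans (Finset.sum_congr rfl fun i _ => ?_) (h2.trans (Finset.sum_congr rfl fun i _ => ?_))
      · simp only [AlgEquiv.coe_toAlgHom, AlgHom.coe_id, id, comul'_apply, AlgEquiv.apply_symm_apply]
        generalize Coalgebra.comul (R := k) (x i) = t
        induction t using TensorProduct.induction_on with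
        | zero => simp
        | add s t hs ht => simp only [map_add, TensorProduct.add_tmul, hs, ht]
        | tmul p q => simp
      · simp only [AlgEquiv.coe_toAlgHom, AlgHom.coe_id, id, comul'_apply, AlgEquiv.apply_symm_apply])
    (AlgHom.ext fun b => by
      have h := congrArg (Algebra.TensorProduct.map (AlgHom.id k k) (e.symm : A →ₐ[k] B))
        (Coalgebra.rTensor_counit_comul (R := k) (e b))
      simp only [Algebra.TensorProduct.map_tmul, AlgEquiv.coe_toAlgHom, AlgHom.coe_id, id,
        AlgEquiv.symm_apply_apply] at h
      refine Eq.trans ?_ h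
      simp only [AlgHom.comp_apply, comul'_apply]
      generalize Coalgebra.comul (R := k) (e b) = t
      induction t using TensorProduct.induction_on with
      | zero => simp
      | add s t hs ht => simp only [map_add, hs, ht]
      | tmul p q => simp [counit'])
    (AlgHom.ext fun b => by
      have h := congrArg (Algebra.TensorProduct.map (e.symm : A →ₐ[k] B) (AlgHom.id k k))
        (Coalgebra.lTensor_counit_comul (R := k) (e b))
      simp only [Algebra.TensorProduct.map_tmul, AlgEquiv.coe_toAlgHom, AlgHom.coe_id, id,
        AlgEquiv.symm_apply_apply] at h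
      refine Eq.trans ?_ h
      simp only [AlgHom.comp_apply, comul'_apply]
      generalize Coalgebra.comul (R := k) (e b) = t
      induction t using TensorProduct.induction_on with
      | zero => simp
      | add s t hs ht => simp only [map_add, hs, ht]
      | tmul p q => simp [counit'])

/-- The transported antipode. -/
def antipode' : B →ₐ[k] B :=
  (e.symm : A →ₐ[k] B).comp ((HopfAlgebra.antipodeAlgHom k A).comp (e : B →ₐ[k] A))

/-- The transported Hopf algebra. -/
abbrev hopf : HopfAlgebra k B :=
  letI := bialg e
  HopfAlgebra.ofAlgHom (antipode' e)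
    (AlgHom.ext fun b => by
      have h := congrArg e.symm (HopfAlgebra.mul_antipode_rTensor_comul_apply (R := k) (e b))
      rw [AlgEquiv.commutes] at h
      refine Eq.trans ?_ h
      show Algebra.TensorProduct.lift _ _ (fun _ _ => Commute.all _ _) (comul' e b) = _
      rw [comul'_apply]
      generalize Coalgebra.comul (R := k) (e b) = t
      induction t using TensorProduct.induction_on with
      | zero => simp
      | add s t hs ht => simp only [map_add, hs, ht]
      | tmul p q => simp [antipode'])
    (AlgHom.ext fun b => by
      have h := congrArg e.symm (HopfAlgebra.mul_antipode_lTensor_comul_apply (R := k) (e b))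
      rw [AlgEquiv.commutes] at h
      refine Eq.trans ?_ h
      show Algebra.TensorProduct.lift _ _ (fun _ _ => Commute.all _ _) (comul' e b) = _
      rw [comul'_apply]
      generalize Coalgebra.comul (R := k) (e b) = t
      induction t using TensorProduct.induction_on with
      | zero => simp
      | add s t hs ht => simp only [map_add, hs, ht]
      | tmul p q => simp [antipode'])

/-- The isomorphism used for transport, as an isomorphism of bialgebras. -/
def bequiv : letI := bialg e; B ≃ₐc[k] A :=
  letI := bialg e
  BialgEquiv.ofAlgEquiv e rfl (AlgHom.ext fun b => by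
    show Algebra.TensorProduct.map (e : B →ₐ[k] A) (e : B →ₐ[k] A) (comul' e b) = _
    rw [comul'_apply, AlgHom.comp_apply]
    show _ = Coalgebra.comul (R := k) (e b)
    generalize Coalgebra.comul (R := k) (e b) = t
    induction t using TensorProduct.induction_on with
    | zero => simp
    | add s t hs ht => simp only [map_add, hs, ht]
    | tmul p q => simp)

end Groth.Agent.AllSS81

namespace Groth.Agent.AllSS81

/-- A finitely generated Hopf algebra is isomorphic to one in the universe of the base. -/
theorem exists_small (k : Type u) [CommRing k] (A : Type v) [CommRing A] [HopfAlgebra k A]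
    [Algebra.FiniteType k A] :
    ∃ (B : Type u) (_ : CommRing B) (_ : HopfAlgebra k B), Nonempty (B ≃ₐc[k] A) := by
  obtain ⟨n, f, hf⟩ := Algebra.FiniteType.iff_quotient_mvPolynomial''.1 ‹Algebra.FiniteType k A›
  let e : (MvPolynomial (Fin n) k ⧸ RingHom.ker f) ≃ₐ[k] A := Ideal.quotientKerAlgEquivOfSurjective hf
  exact ⟨_, inferInstance, hopf e, ⟨bequiv e⟩⟩

end Groth.Agent.AllSS81
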